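import Groth.Prelude.Def_CycDet
import Mathlib.RingTheory.LocalRing.ResidueField.Basic
import Mathlib.RingTheory.SimpleModule.Basic

/-!
# Admissible tuples in a module of finite length over a local ring
-/

set_option autoImplicit false
set_option linter.unusedSectionVars false

universe u v

open CycDet IsLocalRing

namespace Groth.Misc1.CycDetLib

variable {R : Type u} [CommRing R] [IsLocalRing R] {M : Type v} [AddCommGroup M] [Module R M] {l : ℕ}

local notation "B" => spanBefore R M

lemma mem_before {e : Fin l → M} {i : ℕ} {j : Fin l} (h : (j : ℕ) < i) : e j ∈ B e i :=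
  Submodule.subset_span ⟨j, h, rfl⟩

lemma before_le_iff {e : Fin l → M} {i : ℕ} {P : Submodule R M} :
    B e i ≤ P ↔ ∀ j : Fin l, (j : ℕ) < i → e j ∈ P :=
  ⟨fun h _ hj => h (mem_before hj), fun h => Submodule.span_le.2 (by rintro _ ⟨j, hj, rfl⟩; exact h j hj)⟩

lemma before_mono (e : Fin l → M) {i j : ℕ} (h : i ≤ j) : B e i ≤ B e j :=
  before_le_iff.2 fun _ ha => mem_before (lt_of_lt_of_le ha h)

@[simp] lemma before_zero (e : Fin l → M) : B e 0 = ⊥ :=
  le_bot_iff.1 (before_le_iff.2 fun _ h => absurd h (Nat.not_lt_zero _))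

lemma before_succ (e : Fin l → M) (i : Fin l) :
    B e ((i : ℕ) + 1) = B e i ⊔ Submodule.span R {e i} := by
  refine le_antisymm (before_le_iff.2 fun j hj => ?_) (sup_le (before_mono e (Nat.le_succ _)) ?_)
  · rcases eq_or_ne j i with rfl | hne
    · exact Submodule.mem_sup_right (Submodule.mem_span_singleton_self _)
    · exact Submodule.mem_sup_left (mem_before (by
        have : (j : ℕ) ≠ i := fun h => hne (Fin.ext h)
        omega))
  · rw [Submodule.span_singleton_le_iff_mem]; exact mem_before (Nat.lt_succ_self _)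

lemma before_full (e : Fin l → M) {i : ℕ} (hi : l ≤ i) : B e i = Submodule.span R (Set.range e) :=
  le_antisymm (before_le_iff.2 fun j _ => Submodule.subset_span ⟨j, rfl⟩)
    (Submodule.span_le.2 (by rintro _ ⟨j, rfl⟩; exact mem_before (lt_of_lt_of_le j.2 hi)))

lemma before_congr {e e' : Fin l → M} {i : ℕ} (h : ∀ j : Fin l, (j : ℕ) < i → e j = e' j) :
    B e i = B e' i :=
  le_antisymm (before_le_iff.2 fun j hj => h j hj ▸ mem_before hj)
    (before_le_iff.2 fun j hj => (h j hj).symm ▸ mem_before hj)

variable (R) in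
/-- The entries generate the module. -/
def Gen (e : Fin l → M) : Prop := Submodule.span R (Set.range e) = ⊤

lemma gen_comp_equiv (e : Fin l → M) (σ : Fin l ≃ Fin l) : Gen R (e ∘ σ) ↔ Gen R e := by
  rw [Gen, Gen, Set.range_comp, σ.surjective.range_eq, Set.image_univ]

section Change

variable {e e' : Fin l → M} {a : Fin l} {c : Rˣ}
  (h : ∀ j, j ≠ a → e j = e' j) (hc : e a - (c : R) • e' a ∈ spanBefore R M e a)

include h in
lemma before_change_le {i : ℕ} (hi : i ≤ a) : B e i = B e' i :=
  before_congr fun j hj => h j fun hja => by subst hja; omega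

include h hc in
lemma before_change (i : ℕ) : B e i = B e' i := by
  rcases le_or_gt i a with hi | hi
  · exact before_change_le h hi
  have hB := before_change_le (R := R) (e := e) (e' := e') h (le_refl (a : ℕ))
  refine le_antisymm (before_le_iff.2 fun j hj => ?_) (before_le_iff.2 fun j hj => ?_)
  · rcases eq_or_ne j a with rfl | hja
    · rw [← sub_add_cancel (e j) ((c : R) • e' j)]
      refine add_mem (before_mono e' hi.le (hB ▸ hc)) (Submodule.smul_mem _ _ (mem_before hj))
    · rw [h j hja]; exact mem_before hj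
  · rcases eq_or_ne j a with rfl | hja
    · rw [← inv_smul_smul c (e' j), Units.smul_def, Units.smul_def,
        ← sub_sub_cancel (e j) ((c : R) • e' j)]
      exact Submodule.smul_mem _ _ (sub_mem (mem_before hj) (before_mono e hi.le hc))
    · rw [← h j hja]; exact mem_before hj

include h hc in
lemma gen_change : Gen R e ↔ Gen R e' := by
  rw [Gen, Gen, ← before_full e le_rfl, ← before_full e' le_rfl, before_change h hc]

include h hc in
lemma adm_change (he : IsAdmissible R M e) : IsAdmissible R M e' := by
  intro i r hr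
  rw [← before_change h hc]
  rcases eq_or_ne i a with rfl | hia
  · rw [← inv_smul_smul c (e' i), Units.smul_def, Units.smul_def, smul_comm,
      ← sub_sub_cancel (e i) ((c : R) • e' i), smul_sub]
    exact Submodule.smul_mem _ _ (sub_mem (he i r hr) (Submodule.smul_mem _ _ hc))
  · rw [← h i hia]; exact he i r hr

end Change

section Swap

variable {e : Fin l → M} {a b : Fin l} (hab : (b : ℕ) + 1 = (a : ℕ))

lemma swap_apply_lt {j : Fin l} (h1 : j ≠ a) (h2 : j ≠ b) : Equiv.swap a b j = j :=
  Equiv.swap_apply_of_ne_of_ne h1 h2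

include hab in
lemma before_swap {i : ℕ} (hi : i ≠ a) : B (e ∘ Equiv.swap a b) i = B e i := by
  rcases lt_or_gt_of_ne hi with hi | hi
  · refine before_congr fun j hj => ?_
    rw [Function.comp_apply, swap_apply_lt] <;> (intro h; subst h; omega)
  · refine le_antisymm (before_le_iff.2 fun j hj => ?_) (before_le_iff.2 fun j hj => ?_)
    · refine mem_before (R := R) ?_
      rcases eq_or_ne j a with rfl | h1
      · rw [Equiv.swap_apply_left]; omega
      rcases eq_or_ne j b with rfl | h2
      · rw [Equiv.swap_apply_right]; omega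
      rw [swap_apply_lt h1 h2]; exact hj
    · rw [← Equiv.swap_apply_self a b j]
      refine mem_before (R := R) (e := e ∘ Equiv.swap a b) ?_
      rcases eq_or_ne j a with rfl | h1
      · rw [Equiv.swap_apply_left]; omega
      rcases eq_or_ne j b with rfl | h2
      · rw [Equiv.swap_apply_right]; omega
      rw [swap_apply_lt h1 h2]; exact hj

include hab in
lemma before_swap_left : B (e ∘ Equiv.swap a b) a = B e b ⊔ Submodule.span R {e a} := by
  have h := before_succ (R := R) (e ∘ Equiv.swap a b) b
  rw [hab, before_swap hab (i := (b : ℕ)) (by omega), Function.comp_apply, Equiv.swap_apply_right] at h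
  exact h

include hab in
lemma adm_swap (he : IsAdmissible R M e) (hca : ∀ r ∈ maximalIdeal R, r • e a ∈ B e b) :
    IsAdmissible R M (e ∘ Equiv.swap a b) := by
  intro i r hr
  rcases eq_or_ne i a with rfl | h1
  · rw [before_swap_left hab, Function.comp_apply, Equiv.swap_apply_left]
    exact Submodule.mem_sup_left (he b r hr)
  rw [before_swap hab (fun h => h1 (Fin.ext h)), Function.comp_apply]
  rcases eq_or_ne i b with rfl | h2
  · rw [Equiv.swap_apply_right]; exact hca r hr
  · rw [swap_apply_lt h1 h2]; exact he i r hr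

end Swap

section Length

lemma length_sup_singleton_le (P : Submodule R M) (z : M) (hz : ∀ r ∈ maximalIdeal R, r • z ∈ P) :
    Module.length R (P ⊔ Submodule.span R {z} : Submodule R M) ≤ Module.length R P + 1 := by
  set Q := P ⊔ Submodule.span R {z}
  rw [Module.length_eq_add_of_exact (Submodule.inclusion (le_sup_left : P ≤ Q))
    (P.submoduleOf Q).mkQ (Submodule.inclusion_injective _) (Submodule.mkQ_surjective _) (by
      rw [LinearMap.exact_iff, Submodule.ker_mkQ, Submodule.range_inclusion]; rfl)]
  refine add_le_add le_rfl ?_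
  let zz : Q := ⟨z, Submodule.mem_sup_right (Submodule.mem_span_singleton_self z)⟩
  let φ : (R ⧸ maximalIdeal R) →ₗ[R] (Q ⧸ P.submoduleOf Q) :=
    Submodule.liftQ (maximalIdeal R) ((P.submoduleOf Q).mkQ ∘ₗ LinearMap.toSpanSingleton R Q zz)
      fun r hr => (Submodule.Quotient.mk_eq_zero _).2 (hz r hr)
  have hφ : Function.Surjective φ := by
    intro w
    obtain ⟨⟨v, hv⟩, rfl⟩ := Submodule.Quotient.mk_surjective _ w
    obtain ⟨p, hp, q, hq, rfl⟩ := Submodule.mem_sup.1 hv
    obtain ⟨r, rfl⟩ := Submodule.mem_span_singleton.1 hq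
    refine ⟨Submodule.Quotient.mk r, (Submodule.Quotient.eq _).2 ?_⟩
    show r • z - (p + r • z) ∈ P
    simpa using hp
  have : IsSimpleModule R (R ⧸ maximalIdeal R) :=
    isSimpleModule_iff_isCoatom.2 (Ideal.isMaximal_def.1 (maximalIdeal.isMaximal R))
  exact (Module.length_le_of_surjective φ hφ).trans (Module.length_eq_one R _).le

variable {e : Fin l → M} (he : IsAdmissible R M e)

include he in
lemma length_before_le (i : ℕ) : Module.length R (B e i) ≤ i := by
  induction i with
  | zero =>
    rw [before_zero, Module.length_bot]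
    exact le_rfl
  | succ i ih =>
    rcases lt_or_ge i l with hi | hi
    · rw [show i + 1 = ((⟨i, hi⟩ : Fin l) : ℕ) + 1 from rfl, before_succ]
      refine (length_sup_singleton_le _ _ (he ⟨i, hi⟩)).trans ?_
      push_cast
      exact add_le_add ih le_rfl
    · rw [before_full e (hi.trans (Nat.le_succ i)), ← before_full e hi]
      exact ih.trans (by exact_mod_cast Nat.le_succ i)

lemma le_length_before (hnd : ∀ i : Fin l, e i ∉ B e i) :
    ∀ i, i ≤ l → (i : ℕ∞) ≤ Module.length R (B e i) := by
  intro i
  induction i with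
  | zero => exact fun _ => bot_le
  | succ i ih =>
    intro hi
    have hlt : B e i < B e (i + 1) :=
      lt_of_le_not_ge (before_mono e (Nat.le_succ _)) fun h =>
        hnd ⟨i, by omega⟩ (h (mem_before (Nat.lt_succ_self i)))
    rw [Module.length_submodule]
    have := Order.height_add_one_le hlt
    rw [Module.length_submodule] at ih
    push_cast
    exact (add_le_add (ih (by omega)) le_rfl).trans this

variable (hl : Module.length R M = l)

include hl in
lemma finiteLength : IsArtinian R M ∧ IsNoetherian R M :=
  have := isFiniteLength_iff_isNoetherian_isArtinian.1 (Module.length_ne_top_iff.1 (hl ▸ ENat.natCast_ne_top l))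
  ⟨this.2, this.1⟩

include he hl in
/-- An admissible tuple of full length generates iff it is nowhere degenerate. -/
lemma gen_iff : Gen R e ↔ ∀ i : Fin l, e i ∉ B e i := by
  obtain ⟨_, _⟩ := finiteLength hl
  constructor
  · intro hgen i hi
    have key : ∀ n, (i : ℕ) + 1 + n ≤ l →
        Module.length R (B e ((i : ℕ) + 1 + n)) ≤ ((i : ℕ) + n : ℕ) := by
      intro n
      induction n with
      | zero =>
        intro _
        rw [Nat.add_zero, before_succ, sup_eq_left.2 ((Submodule.span_singleton_le_iff_mem _ _).2 hi)]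
        exact length_before_le he _
      | succ n ih =>
        intro hn
        have := before_succ (R := R) e ⟨(i : ℕ) + 1 + n, by omega⟩
        dsimp only at this
        rw [← Nat.add_assoc, this]
        refine (length_sup_singleton_le _ _ (he ⟨(i : ℕ) + 1 + n, by omega⟩)).trans ?_
        push_cast
        exact (add_le_add (ih (by omega)) le_rfl).trans (by push_cast; rw [add_assoc])
    have h := key (l - ((i : ℕ) + 1)) (by omega)
    rw [show (i : ℕ) + 1 + (l - ((i : ℕ) + 1)) = l by omega, before_full e le_rfl, hgen,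
      Module.length_top, hl, Nat.cast_le] at h
    omega
  · intro hnd
    by_contra hne
    have := Submodule.length_lt hne
    rw [hl] at this
    have h2 := le_length_before hnd l le_rfl
    rw [before_full e le_rfl] at h2
    exact absurd h2 (not_le.2 this)

end Length

/-- A nonzero Artinian module over a local ring has a nonzero element killed by the maximal ideal. -/
lemma exists_killed [IsArtinian R M] [Nontrivial M] :
    ∃ x : M, x ≠ 0 ∧ ∀ r ∈ maximalIdeal R, r • x = 0 := by
  have : IsAtomic (Submodule R M) := isAtomic_of_orderBot_wellFounded_lt wellFounded_lt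
  obtain ⟨S, hS, -⟩ := (IsAtomic.eq_bot_or_exists_atom_le (⊤ : Submodule R M)).resolve_left
    (top_ne_bot)
  obtain ⟨x, hxS, hx⟩ := (Submodule.ne_bot_iff S).1 hS.1
  refine ⟨x, hx, fun r hr => ?_⟩
  by_contra hrx
  have hspan : Submodule.span R {r • x} = S :=
    (hS.le_iff.1 ((Submodule.span_singleton_le_iff_mem _ _).2 (S.smul_mem r hxS))).resolve_left
      (by rwa [Submodule.span_singleton_eq_bot])
  obtain ⟨s, hs⟩ := Submodule.mem_span_singleton.1 (hspan ▸ hxS)
  have hu : IsUnit (1 - s * r) :=
    isUnit_one_sub_self_of_mem_nonunits _ ((maximalIdeal R).mul_mem_left s hr)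
  exact hx (hu.smul_eq_zero.1 (by rw [sub_smul, one_smul, mul_smul, hs, sub_self]))

/-- Generating admissible tuples of full length exist. -/
theorem exists_gen (hl : Module.length R M = l) :
    ∃ e : Fin l → M, IsAdmissible R M e ∧ Gen R e := by
  obtain ⟨_, _⟩ := finiteLength hl
  suffices H : ∀ k ≤ l, ∃ e : Fin k → M, IsAdmissible R M e ∧ ∀ i : Fin k, e i ∉ spanBefore R M e i by
    obtain ⟨e, he, hnd⟩ := H l le_rfl
    exact ⟨e, he, (gen_iff he hl).2 hnd⟩
  intro k
  induction k with
  | zero => exact fun _ => ⟨Fin.elim0, fun i => i.elim0, fun i => i.elim0⟩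
  | succ k ih =>
    intro hk
    obtain ⟨e, he, hnd⟩ := ih (by omega)
    set P := Submodule.span R (Set.range e) with hP
    have hne : P ≠ ⊤ := by
      intro h
      have := length_before_le he k
      rw [before_full e le_rfl, ← hP, h, Module.length_top, hl, Nat.cast_le] at this
      omega
    have : Nontrivial (M ⧸ P) := Submodule.Quotient.nontrivial_iff.2 hne
    obtain ⟨z', hz', hkill⟩ := exists_killed (R := R) (M := M ⧸ P)
    obtain ⟨z, rfl⟩ := Submodule.Quotient.mk_surjective P z'
    have hB : ∀ i, i ≤ k → spanBefore R M (Fin.snoc e z) i = spanBefore R M e i := by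
      intro i hi
      refine le_antisymm (before_le_iff.2 fun j hj => ?_) (before_le_iff.2 fun j hj => ?_)
      · rw [show j = (⟨j, by omega⟩ : Fin k).castSucc from rfl, Fin.snoc_castSucc]
        exact mem_before (R := R) (e := e) hj
      · rw [← Fin.snoc_castSucc (α := fun _ => M) z e j]
        exact mem_before (R := R) (show (j.castSucc : ℕ) < i from hj)
    refine ⟨Fin.snoc e z, fun i r hr => ?_, fun i => ?_⟩
    · induction i using Fin.lastCases with
      | last =>
        rw [Fin.snoc_last, Fin.val_last, hB k le_rfl, before_full e le_rfl,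
          ← Submodule.Quotient.mk_eq_zero, Submodule.Quotient.mk_smul]
        exact hkill r hr
      | cast i =>
        rw [Fin.snoc_castSucc, Fin.val_castSucc, hB i i.2.le]
        exact he i r hr
    · induction i using Fin.lastCases with
      | last =>
        rw [Fin.snoc_last, Fin.val_last, hB k le_rfl, before_full e le_rfl,
          ← Submodule.Quotient.mk_eq_zero]
        exact hz'
      | cast i =>
        rw [Fin.snoc_castSucc, Fin.val_castSucc, hB i i.2.le]
        exact hnd i

section Symbols

/-- The class of an admissible tuple. -/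
noncomputable def cls (e : Fin l → M) (he : IsAdmissible R M e) : DetOfLen R M l :=
  Submodule.Quotient.mk (sym R M ⟨e, he⟩)

lemma cls_mem_eq_zero {e : Fin l → M} (he : IsAdmissible R M e) (a : Fin l) (ha : e a ∈ B e a) :
    cls e he = 0 :=
  (Submodule.Quotient.mk_eq_zero _).2 (Submodule.subset_span (Or.inl (Or.inl ⟨⟨e, he⟩, a, ha, rfl⟩)))

lemma cls_change {e e' : Fin l → M} (he : IsAdmissible R M e) (he' : IsAdmissible R M e') (a : Fin l)
    (c : Rˣ) (h : ∀ j, j ≠ a → e j = e' j) (hc : e a - (c : R) • e' a ∈ spanBefore R M e a) :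
    cls e he = residue R (c : R) • cls e' he' :=
  (Submodule.Quotient.eq _).2 (Submodule.subset_span
    (Or.inl (Or.inr ⟨⟨e, he⟩, ⟨e', he'⟩, a, c, h, hc, rfl⟩)))

lemma cls_swap {e : Fin l → M} (he : IsAdmissible R M e) (a b : Fin l) (hab : (b : ℕ) + 1 = a)
    (hca : ∀ r ∈ maximalIdeal R, r • e a ∈ B e b) :
    cls e he = - cls (e ∘ Equiv.swap a b) (adm_swap hab he hca) := by
  rw [eq_neg_iff_add_eq_zero]
  exact (Submodule.Quotient.mk_eq_zero _).2 (Submodule.subset_span
    (Or.inr ⟨⟨e, he⟩, ⟨_, adm_swap hab he hca⟩, a, b, hab, hca, rfl, rfl⟩))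

lemma span_cls : Submodule.span (ResidueField R)
    (Set.range fun e : Adm R M l => cls e.1 e.2) = ⊤ := by
  refine top_unique fun x _ => ?_
  obtain ⟨y, rfl⟩ := Submodule.Quotient.mk_surjective _ x
  clear ‹Submodule.Quotient.mk y ∈ ⊤›
  induction y using Finsupp.induction_linear with
  | zero => exact zero_mem _
  | add p q hp hq => exact add_mem hp hq
  | single e c =>
    rw [← mul_one c, ← smul_eq_mul, ← Finsupp.smul_single, Submodule.Quotient.mk_smul]
    exact Submodule.smul_mem _ _ (Submodule.subset_span ⟨e, rfl⟩)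

end Symbols

section RankOne

/-- A killed element may be moved to position `k` at the cost of a scalar. -/
lemma exists_move {k : Fin l} {x : M} :
    ∀ (n : ℕ) (e : Fin l → M) (he : IsAdmissible R M e), (∀ r ∈ maximalIdeal R, r • x ∈ B e k) →
      x ∉ B e k → x ∈ B e ((k : ℕ) + n + 1) →
      ∃ (e' : Fin l → M) (he' : IsAdmissible R M e') (s : ResidueField R),
        (∀ j : Fin l, (j : ℕ) < k → e' j = e j) ∧ e' k = x ∧ cls e he = s • cls e' he' := by
  intro n
  induction n with
  | zero =>
    intro e he hx hxk hxn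
    rw [Nat.add_zero, before_succ, Submodule.mem_sup] at hxn
    obtain ⟨w, hw, q, hq, rfl⟩ := hxn
    obtain ⟨r, rfl⟩ := Submodule.mem_span_singleton.1 hq
    have hr : IsUnit r := by
      by_contra hr
      exact hxk (add_mem hw (he k r hr))
    obtain ⟨c, rfl⟩ := hr
    have hchg : ∀ j, j ≠ k → e j = Function.update e k (w + (c : R) • e k) j := fun j hj => by
      rw [Function.update_of_ne hj]
    have hmem : e k - ((c⁻¹ : Rˣ) : R) • Function.update e k (w + (c : R) • e k) k ∈ B e k := by
      rw [Function.update_self, smul_add, ← mul_smul, Units.inv_mul, one_smul, sub_add_cancel_right]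
      exact neg_mem (Submodule.smul_mem _ _ hw)
    exact ⟨_, adm_change hchg hmem he, _, fun j hj => (hchg j fun h => by subst h; omega).symm,
      Function.update_self .., cls_change he _ k _ hchg hmem⟩
  | succ n ih =>
    intro e he hx hxk hxn
    by_cases hxn' : x ∈ B e ((k : ℕ) + n + 1)
    · exact ih e he hx hxk hxn'
    rcases lt_or_ge ((k : ℕ) + n + 1) l with hlt | hge
    swap
    · exact absurd (by rwa [before_full e hge, ← before_full e (show l ≤ (k : ℕ) + (n + 1) + 1 by omega)]) hxn'
    let p : Fin l := ⟨(k : ℕ) + n + 1, hlt⟩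
    let q : Fin l := ⟨(k : ℕ) + n, by omega⟩
    rw [show (k : ℕ) + (n + 1) + 1 = (p : ℕ) + 1 from rfl, before_succ, Submodule.mem_sup] at hxn
    obtain ⟨w, hw, y, hy, hxy⟩ := hxn
    obtain ⟨r, rfl⟩ := Submodule.mem_span_singleton.1 hy
    have hr : IsUnit r := by
      by_contra hr
      exact hxn' (hxy ▸ add_mem hw (he p r hr))
    obtain ⟨c, rfl⟩ := hr
    let e₁ := Function.update e p x
    have hchg : ∀ j, j ≠ p → e j = e₁ j := fun j hj => (Function.update_of_ne hj _ _).symm
    have he₁p : e₁ p = x := Function.update_self ..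
    have hmem : e p - ((c⁻¹ : Rˣ) : R) • e₁ p ∈ B e p := by
      rw [he₁p, ← hxy, smul_add, ← mul_smul, Units.inv_mul, one_smul, sub_add_cancel_right]
      exact neg_mem (Submodule.smul_mem _ _ hw)
    have he₁ := adm_change hchg hmem he
    have hqp : (q : ℕ) + 1 = p := rfl
    have hB₁ : ∀ i, B e₁ i = B e i := fun i => (before_change hchg hmem i).symm
    have hca : ∀ r ∈ maximalIdeal R, r • e₁ p ∈ B e₁ q := fun r hr => by
      rw [he₁p, hB₁]
      exact before_mono e (show (k : ℕ) ≤ q from Nat.le_add_right _ _) (hx r hr)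
    have hkp : (k : ℕ) ≠ p := by show (k : ℕ) ≠ (k : ℕ) + n + 1; omega
    obtain ⟨e', he', s, hlow, hk', hs⟩ := ih (e₁ ∘ Equiv.swap p q) (adm_swap hqp he₁ hca)
      (fun r hr => by rw [before_swap hqp hkp, hB₁]; exact hx r hr)
      (by rw [before_swap hqp hkp, hB₁]; exact hxk)
      (by
        have : (e₁ ∘ Equiv.swap p q) q = x := by
          rw [Function.comp_apply, Equiv.swap_apply_right, he₁p]
        rw [← this]
        exact mem_before (R := R) (Nat.lt_succ_self _))
    refine ⟨e', he', residue R ((c⁻¹ : Rˣ) : R) * -s, fun j hj => ?_, hk', ?_⟩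
    · have h1 : j ≠ p := fun h => by subst h; simp [p] at hj; omega
      have h2 : j ≠ q := fun h => by subst h; simp [q] at hj
      rw [hlow j hj, Function.comp_apply, swap_apply_lt h1 h2]
      exact Function.update_of_ne h1 _ _
    · rw [cls_change he he₁ p _ hchg hmem, cls_swap he₁ p q hqp hca, hs, mul_smul, neg_smul]

variable (hl : Module.length R M = l)

include hl in
/-- All symbols are multiples of that of a generating tuple. -/
theorem exists_eq_smul {e₀ : Fin l → M} (he₀ : IsAdmissible R M e₀) (hg₀ : Gen R e₀)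
    (e : Fin l → M) (he : IsAdmissible R M e) : ∃ s : ResidueField R, cls e he = s • cls e₀ he₀ := by
  suffices H : ∀ n, n ≤ l → ∀ (e : Fin l → M) (he : IsAdmissible R M e),
      (∀ j : Fin l, (j : ℕ) < l - n → e j = e₀ j) → ∃ s : ResidueField R, cls e he = s • cls e₀ he₀ from
    H l le_rfl e he fun j hj => by omega
  intro n
  induction n with
  | zero =>
    intro _ e he h
    obtain rfl : e = e₀ := funext fun j => h j (by omega)
    exact ⟨1, (one_smul _ _).symm⟩
  | succ n ih =>
    intro hn e he h
    by_cases hgen : Gen R e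
    · let k : Fin l := ⟨l - (n + 1), by omega⟩
      have hB : B e k = B e₀ k := before_congr h
      obtain ⟨e', he', s, hlow, hk, hs⟩ := exists_move (k := k) (x := e₀ k) l e he
        (fun r hr => hB ▸ he₀ k r hr) (hB ▸ (gen_iff he₀ hl).1 hg₀ k)
        (by rw [before_full e (by omega), hgen]; trivial)
      obtain ⟨t, ht⟩ := ih (by omega) e' he' fun j hj => by
        rcases eq_or_ne j k with rfl | hjk
        · exact hk
        · have : (j : ℕ) ≠ l - (n + 1) := fun h' => hjk (Fin.ext h')
          rw [hlow j (by show (j : ℕ) < l - (n + 1); omega)]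
          exact h j (by omega)
      exact ⟨s * t, by rw [hs, ht, smul_smul]⟩
    · rw [gen_iff he hl] at hgen
      push Not at hgen
      obtain ⟨i, hi⟩ := hgen
      exact ⟨0, by rw [cls_mem_eq_zero he i hi, zero_smul]⟩

include hl in
theorem span_singleton_cls {e₀ : Fin l → M} (he₀ : IsAdmissible R M e₀) (hg₀ : Gen R e₀)
    (z : DetOfLen R M l) : ∃ s : ResidueField R, s • cls e₀ he₀ = z := by
  rw [← Submodule.mem_span_singleton]
  refine (Submodule.span_le.2 ?_) ((span_cls (R := R) (M := M) (l := l)).ge (Submodule.mem_top (x := z)))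
  rintro _ ⟨e, rfl⟩
  exact Submodule.mem_span_singleton.2 ((exists_eq_smul hl he₀ hg₀ e.1 e.2).imp fun _ h => h.symm)

end RankOne

end Groth.Misc1.CycDetLib
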