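import Groth.Agent.Misc1.CycDet.Functional
import Mathlib.LinearAlgebra.TensorProduct.Basic
import Mathlib.Data.Fin.Tuple.Basic

/-!
# Determinants in short exact sequences
-/

set_option autoImplicit false
set_option linter.unusedSectionVars false

universe u v

open CycDet IsLocalRing
open scoped TensorProduct

namespace Groth.Misc1.CycDetLib

variable {R : Type u} [CommRing R] [IsLocalRing R]
  {K L M : Type v} [AddCommGroup K] [Module R K] [AddCommGroup L] [Module R L] [AddCommGroup M]
  [Module R M] {f : K →ₗ[R] L} {g : L →ₗ[R] M} {p q : ℕ}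

lemma cls_congr {N : Type v} [AddCommGroup N] [Module R N] {n : ℕ} {e e' : Fin n → N}
    {he : IsAdmissible R N e} {he' : IsAdmissible R N e'} (h : e = e') : cls e he = cls e' he' := by
  subst h; rfl

section

variable (hfg : LinearMap.range f = LinearMap.ker g) {eK : Fin p → K} {eM : Fin q → M}
  {b : Fin q → L} (hb : ∀ j, g (b j) = eM j)

lemma before_append_low {i : ℕ} (hi : i ≤ p) :
    spanBefore R L (Fin.append (f ∘ eK) b) i = (spanBefore R K eK i).map f := by
  refine le_antisymm (before_le_iff.2 fun t ht => ?_) ?_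
  · rw [show t = Fin.castAdd q ⟨t, lt_of_lt_of_le ht hi⟩ from Fin.ext rfl, Fin.append_left]
    exact Submodule.mem_map_of_mem (mem_before ht)
  · rw [Submodule.map_le_iff_le_comap]
    refine before_le_iff.2 fun t ht => ?_
    refine Submodule.mem_comap.2 ?_
    rw [show f (eK t) = Fin.append (f ∘ eK) b (Fin.castAdd q t) from (Fin.append_left (f ∘ eK) b t).symm]
    exact mem_before (by simpa using ht)

variable (hK : Gen R eK)

include hfg hb hK in
lemma before_append_high (j : ℕ) :
    spanBefore R L (Fin.append (f ∘ eK) b) (p + j) = (spanBefore R M eM j).comap g := by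
  refine le_antisymm (before_le_iff.2 fun t ht => ?_) fun z hz => ?_
  · induction t using Fin.addCases with
    | left i =>
      rw [Fin.append_left, Submodule.mem_comap, Function.comp_apply,
        show g (f (eK i)) = 0 from LinearMap.mem_ker.1 (hfg ▸ LinearMap.mem_range_self f (eK i))]
      exact zero_mem _
    | right i =>
      rw [Fin.append_right, Submodule.mem_comap, hb]
      exact mem_before (by simpa using ht)
  · have hle : spanBefore R M eM j ≤ (spanBefore R L (Fin.append (f ∘ eK) b) (p + j)).map g := by
      refine before_le_iff.2 fun t ht => ⟨b t, ?_, hb t⟩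
      rw [show b t = Fin.append (f ∘ eK) b (Fin.natAdd p t) from (Fin.append_right (f ∘ eK) b t).symm]
      exact mem_before (by simpa using ht)
    obtain ⟨w, hw, hwz⟩ := hle hz
    have hker : z - w ∈ LinearMap.range f := by
      rw [hfg, LinearMap.mem_ker, map_sub, hwz, sub_self]
    rw [← sub_add_cancel z w]
    refine add_mem (before_mono _ (Nat.le_add_right p j) ?_) hw
    rw [before_append_low le_rfl, before_full eK le_rfl, hK, Submodule.map_top]
    exact hker

include hfg hb hK in
lemma adm_append (heK : IsAdmissible R K eK) (heM : IsAdmissible R M eM) :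
    IsAdmissible R L (Fin.append (f ∘ eK) b) := by
  intro i r hr
  induction i using Fin.addCases with
  | left i =>
    rw [Fin.append_left, Fin.val_castAdd, before_append_low i.2.le, Function.comp_apply, ← map_smul]
    exact Submodule.mem_map_of_mem (heK i r hr)
  | right i =>
    rw [Fin.append_right, Fin.val_natAdd, before_append_high hfg hb hK, Submodule.mem_comap, map_smul, hb]
    exact heM i r hr

include hfg hb hK in
lemma gen_append (hM : Gen R eM) : Gen R (Fin.append (f ∘ eK) b) := by
  rw [Gen, ← before_full _ (le_refl (p + q)), before_append_high hfg hb hK, before_full eM le_rfl, hM,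
    Submodule.comap_top]

include hfg hb hK in
/-- The symbol of the combined tuple does not depend on the lifts. -/
lemma cls_append_congr (heK : IsAdmissible R K eK) (heM : IsAdmissible R M eM) {b' : Fin q → L}
    (hb' : ∀ j, g (b' j) = eM j) :
    cls _ (adm_append hfg hb hK heK heM) = cls _ (adm_append hfg hb' hK heK heM) := by
  classical
  let bk : ℕ → Fin q → L := fun k j => if (j : ℕ) < k then b' j else b j
  have hbk : ∀ k j, g (bk k j) = eM j := fun k j => by
    by_cases h : (j : ℕ) < k <;> simp [bk, h, hb, hb']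
  suffices H : ∀ k, k ≤ q →
      cls _ (adm_append hfg hb hK heK heM) = cls _ (adm_append hfg (hbk k) hK heK heM) by
    rw [H q le_rfl]
    congr 2
    exact funext fun j => if_pos j.2
  intro k
  induction k with
  | zero =>
    intro _
    congr 2
  | succ k ih =>
    intro hk
    rw [ih (by omega), cls_change (adm_append hfg (hbk k) hK heK heM)
      (adm_append hfg (hbk (k + 1)) hK heK heM) (Fin.natAdd p ⟨k, by omega⟩) 1 ?_ ?_, Units.val_one,
      map_one, one_smul]
    · intro t ht
      induction t using Fin.addCases with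
      | left i => rw [Fin.append_left, Fin.append_left]
      | right i =>
        rw [Fin.append_right, Fin.append_right]
        have : (i : ℕ) ≠ k := fun h => ht (Fin.ext (by simp [h]))
        simp only [bk, show ((i : ℕ) < k + 1) = ((i : ℕ) < k) from propext (by omega)]
    · rw [Fin.append_right, Fin.append_right, Fin.val_natAdd, before_append_high hfg (hbk k) hK,
        Submodule.mem_comap, map_sub, map_smul, hbk, hbk, Units.val_one, one_smul, sub_self]
      exact zero_mem _

end

lemma mem_natAdd_ne {a j : Fin q} (h : j ≠ a) : Fin.natAdd p j ≠ Fin.natAdd p a := fun h' =>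
  h (Fin.natAdd_injective q p h')

lemma append_comp_swap_right (u : Fin p → L) (v : Fin q → L) (a b : Fin q) :
    Fin.append u v ∘ Equiv.swap (Fin.natAdd p a) (Fin.natAdd p b) = Fin.append u (v ∘ Equiv.swap a b) := by
  refine funext fun t => ?_
  induction t using Fin.addCases with
  | left i =>
    rw [Function.comp_apply, Equiv.swap_apply_of_ne_of_ne, Fin.append_left, Fin.append_left] <;>
      exact fun h => by have := congrArg Fin.val h; simp at this; omega
  | right i =>
    rw [Function.comp_apply, ← (Fin.natAdd_injective q p).map_swap, Fin.append_right, Fin.append_right,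
      Function.comp_apply]

lemma append_comp_swap_left (u : Fin p → L) (v : Fin q → L) (a b : Fin p) :
    Fin.append u v ∘ Equiv.swap (Fin.castAdd q a) (Fin.castAdd q b) = Fin.append (u ∘ Equiv.swap a b) v := by
  refine funext fun t => ?_
  induction t using Fin.addCases with
  | left i =>
    rw [Function.comp_apply, ← (Fin.castAdd_injective p q).map_swap, Fin.append_left, Fin.append_left,
      Function.comp_apply]
  | right i =>
    rw [Function.comp_apply, Equiv.swap_apply_of_ne_of_ne, Fin.append_right, Fin.append_right] <;>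
      exact fun h => by have := congrArg Fin.val h; simp at this; omega

/-- The comparison pairing of the determinants in a short exact sequence. -/
theorem exists_pairing (hfg : LinearMap.range f = LinearMap.ker g) (hg : Function.Surjective g)
    (hlK : Module.length R K = p) :
    ∃ Ψ : DetOfLen R K p →ₗ[ResidueField R] DetOfLen R M q →ₗ[ResidueField R] DetOfLen R L (p + q),
      ∀ (eK : Fin p → K) (heK : IsAdmissible R K eK) (hK : Gen R eK) (eM : Fin q → M)
        (heM : IsAdmissible R M eM) (b : Fin q → L) (hb : ∀ j, g (b j) = eM j),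
        Ψ (cls eK heK) (cls eM heM) = cls _ (adm_append hfg hb hK heK heM) := by
  classical
  let s := Function.surjInv hg
  have hs : ∀ (e : Fin q → M) j, g ((s ∘ e) j) = e j := fun e j => Function.surjInv_eq hg (e j)
  -- for a generating tuple of the kernel
  have inner : ∀ (eK : Fin p → K) (heK : IsAdmissible R K eK) (hK : Gen R eK),
      ∃ P : DetOfLen R M q →ₗ[ResidueField R] DetOfLen R L (p + q), ∀ eM : Adm R M q,
        P (cls eM.1 eM.2) = cls _ (adm_append hfg (hs eM.1) hK heK eM.2) := by
    intro eK heK hK
    let φ : Free R M q →ₗ[ResidueField R] DetOfLen R L (p + q) :=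
      Finsupp.linearCombination (ResidueField R) fun eM => cls _ (adm_append hfg (hs eM.1) hK heK eM.2)
    have hφ : ∀ eM, φ (sym R M eM) = cls _ (adm_append hfg (hs eM.1) hK heK eM.2) := fun eM => by
      simp [φ, sym]
    refine ⟨Submodule.liftQ _ φ (Submodule.span_le.2 ?_), fun eM => hφ eM⟩
    rintro z ((⟨e, a, ha, rfl⟩ | ⟨e, e', a, c, h, hc, rfl⟩) | ⟨e, e', a, c, hac, hca, he', rfl⟩)
    · rw [SetLike.mem_coe, LinearMap.mem_ker, hφ]
      refine cls_mem_eq_zero _ (Fin.natAdd p a) ?_
      rw [Fin.append_right, Fin.val_natAdd, before_append_high hfg (hs e.1) hK, Submodule.mem_comap, hs]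
      exact ha
    · rw [SetLike.mem_coe, LinearMap.mem_ker, map_sub, map_smul, hφ, hφ, sub_eq_zero]
      refine cls_change _ _ (Fin.natAdd p a) c (fun t ht => ?_) ?_
      · induction t using Fin.addCases with
        | left i => rw [Fin.append_left, Fin.append_left]
        | right i =>
          rw [Fin.append_right, Fin.append_right, Function.comp_apply, Function.comp_apply,
            h i fun hia => ht (by rw [hia])]
      · rw [Fin.append_right, Fin.append_right, Fin.val_natAdd, before_append_high hfg (hs e.1) hK,
          Submodule.mem_comap, map_sub, map_smul, hs, hs]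
        exact hc
    · have hca' : ∀ r ∈ maximalIdeal R, r • Fin.append (f ∘ eK) (s ∘ e.1) (Fin.natAdd p a) ∈
          spanBefore R L (Fin.append (f ∘ eK) (s ∘ e.1)) (Fin.natAdd p c : Fin (p + q)) := fun r hr => by
        rw [Fin.append_right, Fin.val_natAdd, before_append_high hfg (hs e.1) hK, Submodule.mem_comap,
          map_smul, hs]
        exact hca r hr
      rw [SetLike.mem_coe, LinearMap.mem_ker, map_add, hφ, hφ,
        cls_swap (adm_append hfg (hs e.1) hK heK e.2) (Fin.natAdd p a) (Fin.natAdd p c) (by simp; omega) hca',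
        neg_add_eq_zero]
      refine cls_congr ?_
      rw [append_comp_swap_right, he']
      rfl
  choose P hP using inner
  let ψ : Free R K p →ₗ[ResidueField R] DetOfLen R M q →ₗ[ResidueField R] DetOfLen R L (p + q) :=
    Finsupp.linearCombination (ResidueField R) fun eK =>
      if hK : Gen R eK.1 then P eK.1 eK.2 hK else 0
  have hψ : ∀ eK, ψ (sym R K eK) = if hK : Gen R eK.1 then P eK.1 eK.2 hK else 0 := fun eK => by
    simp [ψ, sym]
  have extM : ∀ {F G : DetOfLen R M q →ₗ[ResidueField R] DetOfLen R L (p + q)},
      (∀ eM : Adm R M q, F (cls eM.1 eM.2) = G (cls eM.1 eM.2)) → F = G := fun h =>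
    LinearMap.ext_on_range span_cls h
  refine ⟨Submodule.liftQ _ ψ (Submodule.span_le.2 ?_), fun eK heK hK eM heM b hb => ?_⟩
  · rintro z ((⟨e, a, ha, rfl⟩ | ⟨e, e', a, c, h, hc, rfl⟩) | ⟨e, e', a, c, hac, hca, he', rfl⟩)
    · rw [SetLike.mem_coe, LinearMap.mem_ker, hψ, dif_neg fun hg' => (gen_iff e.2 hlK).1 hg' a ha]
    · rw [SetLike.mem_coe, LinearMap.mem_ker, map_sub, map_smul, hψ, hψ, sub_eq_zero]
      by_cases hK : Gen R e.1
      swap
      · rw [dif_neg hK, dif_neg (mt (gen_change h hc).2 hK), smul_zero]
      rw [dif_pos hK, dif_pos ((gen_change h hc).1 hK)]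
      refine extM fun eM => ?_
      rw [LinearMap.smul_apply, hP, hP]
      refine cls_change _ _ (Fin.castAdd q a) c (fun t ht => ?_) ?_
      · induction t using Fin.addCases with
        | left i =>
          rw [Fin.append_left, Fin.append_left, Function.comp_apply, Function.comp_apply,
            h i fun hia => ht (by rw [hia])]
        | right i => rw [Fin.append_right, Fin.append_right]
      · rw [Fin.append_left, Fin.append_left, Fin.val_castAdd, before_append_low a.2.le, Function.comp_apply,
          Function.comp_apply, ← map_smul, ← map_sub]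
        exact Submodule.mem_map_of_mem hc
    · rw [SetLike.mem_coe, LinearMap.mem_ker, map_add, hψ, hψ]
      by_cases hK : Gen R e.1
      swap
      · rw [dif_neg hK, dif_neg (by rw [he']; exact mt (gen_comp_equiv (R := R) e.1 _).1 hK), add_zero]
      rw [dif_pos hK, dif_pos (by rw [he']; exact (gen_comp_equiv (R := R) e.1 _).2 hK)]
      refine extM fun eM => ?_
      have hca' : ∀ r ∈ maximalIdeal R, r • Fin.append (f ∘ e.1) (s ∘ eM.1) (Fin.castAdd q a) ∈
          spanBefore R L (Fin.append (f ∘ e.1) (s ∘ eM.1)) (Fin.castAdd q c : Fin (p + q)) := fun r hr => by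
        rw [Fin.append_left, Fin.val_castAdd, before_append_low c.2.le, Function.comp_apply, ← map_smul]
        exact Submodule.mem_map_of_mem (hca r hr)
      rw [LinearMap.add_apply, LinearMap.zero_apply, hP, hP,
        cls_swap (adm_append hfg (hs eM.1) hK e.2 eM.2) (Fin.castAdd q a) (Fin.castAdd q c) (by simpa using hac) hca',
        neg_add_eq_zero]
      refine cls_congr ?_
      rw [append_comp_swap_left, he']
      rfl
  · show ψ (sym R K ⟨eK, heK⟩) (cls eM heM) = _
    rw [hψ, dif_pos hK]
    exact (hP eK heK hK ⟨eM, heM⟩).trans (cls_append_congr hfg (hs eM) hK heK heM hb)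

/-- The determinant of a short exact sequence. -/
theorem exists_det_iso (hfg : LinearMap.range f = LinearMap.ker g) (hf : Function.Injective f)
    (hg : Function.Surjective g) (hlK : Module.length R K = p) (hlM : Module.length R M = q) {n : ℕ}
    (hn : p + q = n) :
    ∃ γ : DetOfLen R K p ⊗[ResidueField R] DetOfLen R M q ≃ₗ[ResidueField R] DetOfLen R L n,
      ∀ (eK : Adm R K p) (eM : Adm R M q) (eL : Adm R L n), cls eK.1 eK.2 ≠ 0 →
        (∀ i, eL.1 (Fin.cast hn (Fin.castAdd q i)) = f (eK.1 i)) →
        (∀ j, g (eL.1 (Fin.cast hn (Fin.natAdd p j))) = eM.1 j) →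
        γ (cls eK.1 eK.2 ⊗ₜ cls eM.1 eM.2) = cls eL.1 eL.2 := by
  subst hn
  have hlL : Module.length R L = (p + q : ℕ) := by
    rw [Module.length_eq_add_of_exact f g hf hg (LinearMap.exact_iff.2 hfg.symm), hlK, hlM, Nat.cast_add]
  obtain ⟨Ψ, hΨ⟩ := exists_pairing (q := q) hfg hg hlK
  obtain ⟨eK₀, heK₀, hK₀⟩ := exists_gen hlK
  obtain ⟨eM₀, heM₀, hM₀⟩ := exists_gen hlM
  obtain ⟨Λ, hΛ⟩ := exists_functional hlL
  let γ := TensorProduct.lift Ψ
  let z := cls eK₀ heK₀ ⊗ₜ[ResidueField R] cls eM₀ heM₀
  have hb₀ : ∀ j, g ((Function.surjInv hg ∘ eM₀) j) = eM₀ j := fun j => Function.surjInv_eq hg (eM₀ j)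
  have hgen := gen_append hfg hb₀ hK₀ hM₀
  have hγz : γ z = cls _ (adm_append hfg hb₀ hK₀ heK₀ heM₀) :=
    (TensorProduct.lift.tmul _ _).trans (hΨ eK₀ heK₀ hK₀ eM₀ heM₀ _ hb₀)
  have hall : ∀ w, ∃ t : ResidueField R, t • z = w := by
    intro w
    induction w using TensorProduct.induction_on with
    | zero => exact ⟨0, zero_smul _ _⟩
    | tmul a b =>
      obtain ⟨t, rfl⟩ := span_singleton_cls hlK heK₀ hK₀ a
      obtain ⟨t', rfl⟩ := span_singleton_cls hlM heM₀ hM₀ b
      exact ⟨t * t', (TensorProduct.smul_tmul_smul _ _ _ _).symm⟩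
    | add a b ha hb =>
      obtain ⟨t, rfl⟩ := ha
      obtain ⟨t', rfl⟩ := hb
      exact ⟨t + t', add_smul _ _ _⟩
  have hbij : Function.Bijective γ := by
    refine ⟨(injective_iff_map_eq_zero γ).2 fun w hw => ?_, fun y => ?_⟩
    · obtain ⟨t, rfl⟩ := hall w
      rw [map_smul, hγz] at hw
      have h2 := congrArg Λ hw
      rw [map_smul, map_zero, smul_eq_zero] at h2
      rw [h2.resolve_right (hΛ _ _ hgen), zero_smul]
    · obtain ⟨t, rfl⟩ := span_singleton_cls hlL (adm_append hfg hb₀ hK₀ heK₀ heM₀) hgen y
      exact ⟨t • z, by rw [map_smul, hγz]⟩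
  refine ⟨LinearEquiv.ofBijective γ hbij, fun eK eM eL hne h1 h2 => ?_⟩
  have hK : Gen R eK.1 := (gen_iff eK.2 hlK).2 fun i hi => hne (cls_mem_eq_zero _ i hi)
  have hb : ∀ j, g ((fun j => eL.1 (Fin.natAdd p j)) j) = eM.1 j := fun j => by simpa using h2 j
  refine ((TensorProduct.lift.tmul _ _).trans (hΨ eK.1 eK.2 hK eM.1 eM.2 _ hb)).trans ?_
  congr 2
  refine funext fun t => ?_
  induction t using Fin.addCases with
  | left i => rw [Fin.append_left]; simpa using (h1 i).symm
  | right i => rw [Fin.append_right]

end Groth.Misc1.CycDetLib
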