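import Groth.Agent.Misc1.CycDet.Basic

/-!
# The determinant functional on admissible tuples
-/

set_option autoImplicit false
set_option linter.unusedSectionVars false
set_option linter.unusedSimpArgs false

universe u v

open CycDet IsLocalRing

namespace Groth.Misc1.CycDetLib

variable (R : Type u) [CommRing R] [IsLocalRing R] (M : Type v) [AddCommGroup M] [Module R M]

/-- A function on tuples compatible with the admissible relations, nonzero exactly on generating
tuples. -/
structure IsDet (l : ℕ) (D : (Fin l → M) → ResidueField R) : Prop where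
  ne_zero : ∀ e, IsAdmissible R M e → Gen R e → D e ≠ 0
  eq_zero : ∀ e, IsAdmissible R M e → ¬ Gen R e → D e = 0
  change : ∀ (e e' : Fin l → M), IsAdmissible R M e → IsAdmissible R M e' →
    ∀ (a : Fin l) (c : Rˣ), (∀ j, j ≠ a → e j = e' j) → e a - (c : R) • e' a ∈ spanBefore R M e a →
      D e = residue R (c : R) * D e'
  swap : ∀ (e : Fin l → M), IsAdmissible R M e → ∀ (a b : Fin l), (b : ℕ) + 1 = a →
    (∀ r ∈ maximalIdeal R, r • e a ∈ spanBefore R M e b) → D (e ∘ Equiv.swap a b) = - D e

variable {R M} {l : ℕ}

/-- The position and coefficient with which a fixed element enters a tuple. -/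
def Hits (x : M) (e : Fin (l + 1) → M) (q : Fin (l + 1) × Rˣ) : Prop :=
  x - (q.2 : R) • e q.1 ∈ spanBefore R M e q.1

variable {x : M} {e : Fin (l + 1) → M}

lemma hits_unique (hnd : ∀ i : Fin (l + 1), e i ∉ spanBefore R M e i) {p p' : Fin (l + 1)} {c c' : Rˣ}
    (h : Hits x e (p, c)) (h' : Hits x e (p', c')) :
    p = p' ∧ residue R (c : R) = residue R (c' : R) := by
  have key : ∀ (p p' : Fin (l + 1)) (c c' : Rˣ), Hits x e (p, c) → Hits x e (p', c') →
      ¬ (p : ℕ) < p' := by
    intro p p' c c' h h' hlt
    refine hnd p' ?_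
    have hx : x ∈ spanBefore R M e p' := by
      rw [← sub_add_cancel x ((c : R) • e p)]
      exact add_mem (before_mono e hlt.le h) (Submodule.smul_mem _ _ (mem_before hlt))
    rw [← inv_smul_smul c' (e p'), Units.smul_def, Units.smul_def, ← sub_sub_cancel x ((c' : R) • e p')]
    exact Submodule.smul_mem _ _ (sub_mem hx h')
  obtain rfl : p = p' := Fin.ext (le_antisymm (not_lt.1 (key p' p c' c h' h)) (not_lt.1 (key p p' c c' h h')))
  refine ⟨rfl, ?_⟩
  by_contra hne
  have hu : IsUnit ((c : R) - c') := by
    rw [← ne_eq, ← sub_ne_zero, ← map_sub, residue_ne_zero_iff_isUnit] at hne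
    exact hne
  refine hnd p ((Submodule.smul_mem_iff_of_isUnit _ hu).1 ?_)
  have := sub_mem h' h
  rw [sub_sub_sub_cancel_left, ← sub_smul] at this
  exact this

lemma hits_exists (hx : x ≠ 0) (he : IsAdmissible R M e) (hg : Gen R e) :
    ∃ q : Fin (l + 1) × Rˣ, Hits x e q := by
  classical
  have hex : ∃ i, x ∈ spanBefore R M e (i + 1) := ⟨l, by rw [before_full e le_rfl, hg]; trivial⟩
  have hlt : Nat.find hex < l + 1 :=
    Nat.lt_succ_of_le (Nat.find_min' hex (by rw [before_full e le_rfl, hg]; trivial))
  let p : Fin (l + 1) := ⟨Nat.find hex, hlt⟩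
  have hmem : x ∈ spanBefore R M e ((p : ℕ) + 1) := Nat.find_spec hex
  rw [before_succ, Submodule.mem_sup] at hmem
  obtain ⟨w, hw, y, hy, hxy⟩ := hmem
  obtain ⟨r, rfl⟩ := Submodule.mem_span_singleton.1 hy
  have hr : IsUnit r := by
    by_contra hr
    have hxp : x ∈ spanBefore R M e p := hxy ▸ add_mem hw (he p r hr)
    rcases Nat.eq_zero_or_pos (p : ℕ) with h0 | h0
    · rw [h0, before_zero, Submodule.mem_bot] at hxp
      exact hx hxp
    · refine Nat.find_min hex (m := (p : ℕ) - 1) (by show _ < (p : ℕ); omega) ?_
      rwa [Nat.sub_add_cancel h0]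
  obtain ⟨c, rfl⟩ := hr
  refine ⟨(p, c), ?_⟩
  show x - (c : R) • e p ∈ _
  rw [← hxy, add_sub_cancel_right]
  exact hw

variable (x) in
/-- The tuple in the quotient by `x` obtained by omitting one entry. -/
noncomputable abbrev drop (e : Fin (l + 1) → M) (p : Fin (l + 1)) : Fin l → M ⧸ Submodule.span R {x} :=
  fun j => (Submodule.span R {x}).mkQ (e (p.succAbove j))

lemma before_drop {p : Fin (l + 1)} {c : Rˣ} (hp : Hits x e (p, c)) (j : Fin l) :
    spanBefore R _ (drop (R := R) x e p) j =
      (spanBefore R M e (p.succAbove j)).map (Submodule.span R {x}).mkQ := by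
  have hlt : ∀ {t j : Fin l}, (t : ℕ) < j → (p.succAbove t : ℕ) < (p.succAbove j : ℕ) := fun h =>
    Fin.strictMono_succAbove p h
  have hlt' : ∀ {t j : Fin l}, (p.succAbove t : ℕ) < (p.succAbove j : ℕ) → (t : ℕ) < j := fun h =>
    (Fin.strictMono_succAbove p).lt_iff_lt.1 h
  refine le_antisymm (before_le_iff.2 fun t ht => Submodule.mem_map_of_mem (mem_before (hlt ht))) ?_
  rw [Submodule.map_le_iff_le_comap]
  have hlow : ∀ i : Fin (l + 1), i ≠ p → (i : ℕ) < (p.succAbove j : ℕ) →
      e i ∈ (spanBefore R _ (drop (R := R) x e p) j).comap (Submodule.span R {x}).mkQ := fun i hne hi => by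
    obtain ⟨t, rfl⟩ := Fin.exists_succAbove_eq hne
    exact mem_before (R := R) (e := drop (R := R) x e p) (hlt' hi)
  refine before_le_iff.2 fun i hi => ?_
  rcases eq_or_ne i p with rfl | hne
  · set S := (spanBefore R _ (drop (R := R) x e i) j).comap (Submodule.span R {x}).mkQ
    have hle : spanBefore R M e i ≤ S := before_le_iff.2 fun t ht =>
      hlow t (fun h => by subst h; omega) (by omega)
    have hxS : x ∈ S := by
      refine Submodule.mem_comap.2 ?_
      rw [Submodule.mkQ_apply, (Submodule.Quotient.mk_eq_zero _).2 (Submodule.mem_span_singleton_self x)]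
      exact zero_mem _
    rw [← inv_smul_smul c (e i), Units.smul_def, Units.smul_def, ← sub_sub_cancel x ((c : R) • e i)]
    exact S.smul_mem _ (sub_mem hxS (hle hp))
  · exact hlow i hne hi

lemma adm_drop (he : IsAdmissible R M e) {p : Fin (l + 1)} {c : Rˣ} (hp : Hits x e (p, c)) :
    IsAdmissible R _ (drop (R := R) x e p) := fun j r hr => by
  rw [before_drop hp, ← map_smul]
  exact Submodule.mem_map_of_mem (he _ r hr)

lemma gen_drop (hg : Gen R e) {p : Fin (l + 1)} {c : Rˣ} (hp : Hits x e (p, c)) :
    Gen R (drop (R := R) x e p) := by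
  set S := (Submodule.span R (Set.range (drop (R := R) x e p))).comap (Submodule.span R {x}).mkQ
  have hlow : ∀ i, i ≠ p → e i ∈ S := fun i hne => by
    obtain ⟨t, rfl⟩ := Fin.exists_succAbove_eq hne
    exact Submodule.subset_span ⟨t, rfl⟩
  have hS : (⊤ : Submodule R M) ≤ S := by
    rw [← hg, Submodule.span_le]
    rintro _ ⟨i, rfl⟩
    rcases eq_or_ne i p with rfl | hne
    · have hle : spanBefore R M e i ≤ S := before_le_iff.2 fun t ht => hlow t (fun h => by subst h; omega)
      have hxS : x ∈ S := by
        refine Submodule.mem_comap.2 ?_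
        rw [Submodule.mkQ_apply, (Submodule.Quotient.mk_eq_zero _).2 (Submodule.mem_span_singleton_self x)]
        exact zero_mem _
      rw [SetLike.mem_coe, ← inv_smul_smul c (e i), Units.smul_def, Units.smul_def,
        ← sub_sub_cancel x ((c : R) • e i)]
      exact S.smul_mem _ (sub_mem hxS (hle hp))
    · exact hlow i hne
  refine top_unique fun z _ => ?_
  obtain ⟨y, rfl⟩ := Submodule.Quotient.mk_surjective _ z
  exact hS (Submodule.mem_top (x := y))

lemma length_span_singleton {x : M} (hx : x ≠ 0) (hkill : ∀ r ∈ maximalIdeal R, r • x = 0) :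
    Module.length R (Submodule.span R {x}) = 1 := by
  refine le_antisymm ?_ (Order.one_le_iff_pos.2 ?_)
  · have := length_sup_singleton_le (⊥ : Submodule R M) x (fun r hr => by rw [hkill r hr]; exact zero_mem _)
    rwa [bot_sup_eq, Module.length_bot, zero_add] at this
  · have : Nontrivial (Submodule.span R {x}) :=
      Submodule.nontrivial_iff_ne_bot.2 (by rwa [Ne, Submodule.span_singleton_eq_bot])
    exact Module.length_pos

theorem exists_isDet : ∀ (l : ℕ) (M : Type v) [AddCommGroup M] [Module R M],
    Module.length R M = l → ∃ D, IsDet R M l D := by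
  intro l
  induction l with
  | zero =>
    intro M _ _ hl
    have : Subsingleton M := Module.length_eq_zero_iff.1 (hl.trans Nat.cast_zero)
    refine ⟨fun _ => 1, fun _ _ _ => one_ne_zero, fun e _ h => absurd ?_ h, fun _ _ _ _ a => a.elim0,
      fun _ _ a => a.elim0⟩
    exact Subsingleton.elim _ _
  | succ l ih =>
    intro M _ _ hl
    obtain ⟨_, _⟩ := finiteLength hl
    have : Nontrivial M := Module.length_pos_iff.1 (by rw [hl]; exact_mod_cast Nat.succ_pos l)
    obtain ⟨x, hx, hkill⟩ := exists_killed (R := R) (M := M)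
    have hlq : Module.length R (M ⧸ Submodule.span R {x}) = l := by
      have h := Module.length_eq_add_of_exact (Submodule.span R {x}).subtype (Submodule.span R {x}).mkQ
        (Submodule.injective_subtype _) (Submodule.mkQ_surjective _) (LinearMap.exact_subtype_mkQ _)
      rw [hl, length_span_singleton hx hkill, Nat.cast_succ, add_comm (1 : ℕ∞)] at h
      exact (WithTop.add_right_cancel ENat.one_ne_top h).symm
    obtain ⟨D', hD'⟩ := ih (M ⧸ Submodule.span R {x}) hlq
    classical
    let D : (Fin (l + 1) → M) → ResidueField R := fun e =>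
      if h : Gen R e ∧ ∃ q, Hits x e q then
        (-1) ^ (h.2.choose.1 : ℕ) * (residue R ((h.2.choose.2 : Rˣ) : R))⁻¹ * D' (drop (R := R) x e h.2.choose.1)
      else 0
    have hD : ∀ e, IsAdmissible R M e → Gen R e → ∀ (p : Fin (l + 1)) (c : Rˣ), Hits x e (p, c) →
        D e = (-1) ^ (p : ℕ) * (residue R (c : R))⁻¹ * D' (drop (R := R) x e p) := by
      intro e he hg p c hp
      have h : Gen R e ∧ ∃ q, Hits x e q := ⟨hg, (p, c), hp⟩
      obtain ⟨e1, e2⟩ : h.2.choose.1 = p ∧
          residue R ((h.2.choose.2 : Rˣ) : R) = residue R (c : R) := hits_unique ((gen_iff he hl).1 hg) h.2.choose_spec hp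
      simp only [D, dif_pos h, e1, e2]
    have hD0 : ∀ e, ¬ Gen R e → D e = 0 := fun e h => dif_neg fun h' => h h'.1
    refine ⟨D, fun e he hg => ?_, fun e _ h => hD0 e h, ?_, ?_⟩
    · obtain ⟨⟨p, c⟩, hp⟩ := hits_exists hx he hg
      rw [hD e he hg p c hp]
      exact mul_ne_zero (mul_ne_zero (pow_ne_zero _ (neg_ne_zero.2 one_ne_zero))
        (inv_ne_zero ((residue_ne_zero_iff_isUnit _).2 c.isUnit)))
        (hD'.ne_zero _ (adm_drop he hp) (gen_drop hg hp))
    · -- changing one entry
      intro e e' he he' a u h hc
      by_cases hg : Gen R e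
      swap
      · rw [hD0 e hg, hD0 e' (mt (gen_change h hc).2 hg), mul_zero]
      have hg' := (gen_change h hc).1 hg
      obtain ⟨⟨p, c⟩, hp⟩ := hits_exists hx he hg
      rw [hD e he hg p c hp]
      rcases eq_or_ne p a with rfl | hpa
      · have hp' : Hits x e' (p, c * u) := by
          show x - ((c * u : Rˣ) : R) • e' p ∈ _
          rw [← before_change h hc, Units.val_mul, mul_smul,
            show x - (c : R) • (u : R) • e' p = (x - (c : R) • e p) + (c : R) • (e p - (u : R) • e' p) by
              rw [smul_sub]; abel]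
          exact add_mem hp (Submodule.smul_mem _ _ hc)
        rw [hD e' he' hg' p _ hp', show drop (R := R) x e' p = drop (R := R) x e p from
          funext fun j => congrArg _ (h _ (Fin.succAbove_ne p j)).symm, Units.val_mul, map_mul, mul_inv]
        have hu : residue R (u : R) ≠ 0 := (residue_ne_zero_iff_isUnit _).2 u.isUnit
        field_simp
      · have hp' : Hits x e' (p, c) := by
          show x - (c : R) • e' p ∈ _
          rw [← before_change h hc, ← h p hpa]
          exact hp
        obtain ⟨t, rfl⟩ := Fin.exists_succAbove_eq (Ne.symm hpa)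
        rw [hD e' he' hg' p c hp', hD'.change (drop (R := R) x e p) (drop (R := R) x e' p) (adm_drop he hp)
          (adm_drop he' hp') t u (fun j hj => congrArg _ (h _ fun h' => hj (Fin.succAbove_right_injective h')))
          (by rw [before_drop hp, ← map_smul, ← map_sub]; exact Submodule.mem_map_of_mem hc)]
        ring
    · -- swapping adjacent entries
      intro e he a b hab hca
      set e' := e ∘ Equiv.swap a b with he'def
      have he' : IsAdmissible R M e' := adm_swap hab he hca
      by_cases hg : Gen R e
      swap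
      · rw [hD0 e hg, hD0 e' (mt (gen_comp_equiv (R := R) e (Equiv.swap a b)).1 hg), neg_zero]
      have hg' : Gen R e' := (gen_comp_equiv (R := R) e (Equiv.swap a b)).2 hg
      obtain ⟨⟨p, c⟩, hp⟩ := hits_exists hx he hg
      have hne : a ≠ b := fun h => by subst h; omega
      have hea : e' a = e b := congrArg e (Equiv.swap_apply_left a b)
      have heb : e' b = e a := congrArg e (Equiv.swap_apply_right a b)
      have hsgn : ∀ z : ResidueField R, (-1 : ResidueField R) ^ (a : ℕ) * z = -((-1) ^ (b : ℕ) * z) :=
        fun z => by rw [← hab, pow_succ]; ring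
      rw [hD e he hg p c hp]
      by_cases hpb : p = b
      · subst hpb
        have hp' : Hits x e' (a, c) := by
          show x - (c : R) • e' a ∈ _
          rw [hea, before_swap_left hab]
          exact Submodule.mem_sup_left hp
        rw [hD e' he' hg' a c hp', show drop (R := R) x e' a = drop (R := R) x e p from funext fun j => by
          refine congrArg _ (congrArg e ?_)
          simp only [Fin.ext_iff, Equiv.swap_apply_def, Fin.succAbove, Fin.lt_def, Fin.val_castSucc, Fin.val_succ]
          split_ifs <;> simp_all [Fin.val_succ, Fin.val_castSucc] <;> omega,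
          mul_assoc, hsgn, mul_assoc]
      by_cases hpa : p = a
      · subst hpa
        have hp2 : x - (c : R) • e p ∈ spanBefore R M e b ⊔ Submodule.span R {e b} := by
          rw [← before_succ, hab]; exact hp
        obtain ⟨w, hw, y, hy, hwy⟩ := Submodule.mem_sup.1 hp2
        obtain ⟨α, rfl⟩ := Submodule.mem_span_singleton.1 hy
        by_cases hα : IsUnit α
        · obtain ⟨α, rfl⟩ := hα
          have hp' : Hits x e' (p, α) := by
            show x - (α : R) • e' p ∈ _
            rw [hea, before_swap_left hab,
              show x - (α : R) • e b = w + (c : R) • e p by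
                rw [← sub_add_cancel x ((c : R) • e p), ← hwy]; abel]
            exact add_mem (Submodule.mem_sup_left hw)
              (Submodule.mem_sup_right (Submodule.smul_mem _ _ (Submodule.mem_span_singleton_self _)))
          obtain ⟨t, ht⟩ := Fin.exists_succAbove_eq hne.symm
          have hch := hD'.change (drop (R := R) x e' p) (drop (R := R) x e p) (adm_drop he' hp')
            (adm_drop he hp) t (-(c⁻¹ * α)) (fun j hj => by
              refine congrArg _ (congrArg e ?_)
              exact Equiv.swap_apply_of_ne_of_ne (Fin.succAbove_ne p j)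
                (fun h => hj (Fin.succAbove_right_injective (h.trans ht.symm)))) (by
              rw [before_drop hp', ← map_smul, ← map_sub, ht, heb, before_swap hab (by omega)]
              have : (Submodule.span R {x}).mkQ (e p - ((-(c⁻¹ * α) : Rˣ) : R) • e b) =
                  (Submodule.span R {x}).mkQ (-(((c⁻¹ : Rˣ) : R) • w)) := by
                refine (Submodule.Quotient.eq _).2 (Submodule.mem_span_singleton.2 ⟨((c⁻¹ : Rˣ) : R), ?_⟩)
                rw [← sub_add_cancel x ((c : R) • e p), ← hwy, Units.val_neg, Units.val_mul, smul_add, smul_add,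
                  neg_smul, mul_smul, ← mul_smul ((c⁻¹ : Rˣ) : R) (c : R), Units.inv_mul, one_smul]
                abel
              rw [this]
              exact Submodule.mem_map_of_mem (neg_mem (Submodule.smul_mem _ _ hw)))
          have hα0 : residue R (α : R) ≠ 0 := (residue_ne_zero_iff_isUnit _).2 α.isUnit
          have hcinv : residue R ((c⁻¹ : Rˣ) : R) = (residue R (c : R))⁻¹ :=
            eq_inv_of_mul_eq_one_left (by rw [← map_mul, Units.inv_mul, map_one])
          rw [hD e' he' hg' p α hp', hch, Units.val_neg, Units.val_mul, map_neg, map_mul, hcinv]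
          field_simp
        · have hp' : Hits x e' (b, c) := by
            show x - (c : R) • e' b ∈ _
            rw [heb, before_swap hab (i := (b : ℕ)) (by omega), ← hwy]
            exact add_mem hw (he b α hα)
          rw [hD e' he' hg' b c hp', show drop (R := R) x e' b = drop (R := R) x e p from funext fun j => by
            refine congrArg _ (congrArg e ?_)
            simp only [Fin.ext_iff, Equiv.swap_apply_def, Fin.succAbove, Fin.lt_def, Fin.val_castSucc, Fin.val_succ]
            split_ifs <;> simp_all [Fin.val_succ, Fin.val_castSucc] <;> omega,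
            mul_assoc ((-1 : ResidueField R) ^ (p : ℕ)), hsgn, neg_neg, ← mul_assoc]
      have hsp : Equiv.swap a b p = p := Equiv.swap_apply_of_ne_of_ne hpa hpb
      have hp' : Hits x e' (p, c) := by
        show x - (c : R) • e' p ∈ _
        rw [show e' p = e p from congrArg e hsp, before_swap hab (fun h => hpa (Fin.ext h))]
        exact hp
      obtain ⟨ta, rfl⟩ := Fin.exists_succAbove_eq (Ne.symm hpa)
      obtain ⟨tb, rfl⟩ := Fin.exists_succAbove_eq (Ne.symm hpb)
      have htab : (tb : ℕ) + 1 = ta := by
        have h1 := hab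
        simp only [Fin.succAbove, Fin.lt_def, Fin.val_castSucc] at h1
        have h2 : (p : ℕ) ≠ (p.succAbove ta : ℕ) := fun h => hpa (Fin.ext h)
        have h3 : (p : ℕ) ≠ (p.succAbove tb : ℕ) := fun h => hpb (Fin.ext h)
        simp only [Fin.succAbove, Fin.lt_def, Fin.val_castSucc] at h2 h3
        split_ifs at h1 h2 h3 <;> simp only [Fin.val_succ, Fin.val_castSucc] at h1 h2 h3 <;> omega
      have heq : drop (R := R) x e' p = drop (R := R) x e p ∘ Equiv.swap ta tb := funext fun j => by
        refine congrArg _ (congrArg e ?_)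
        exact (Fin.succAbove_right_injective.map_swap ta tb j).symm
      rw [hD e' he' hg' p c hp', heq, hD'.swap (drop (R := R) x e p) (adm_drop he hp) ta tb htab fun r hr => by
        rw [before_drop hp, ← map_smul]
        exact Submodule.mem_map_of_mem (hca r hr)]
      ring

variable (hl : Module.length R M = l)

include hl in
/-- A linear form on symbols, nonzero on generating tuples. -/
theorem exists_functional :
    ∃ Λ : DetOfLen R M l →ₗ[ResidueField R] ResidueField R,
      ∀ (e : Fin l → M) (he : IsAdmissible R M e), Gen R e → Λ (cls e he) ≠ 0 := by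
  obtain ⟨D, hD⟩ := exists_isDet l M hl
  let φ : Free R M l →ₗ[ResidueField R] ResidueField R :=
    Finsupp.linearCombination (ResidueField R) fun e : Adm R M l => D e.1
  have hφ : ∀ e : Adm R M l, φ (sym R M e) = D e.1 := fun e => by simp [φ, sym]
  refine ⟨Submodule.liftQ _ φ (Submodule.span_le.2 ?_), fun e he hg => ?_⟩
  · rintro z ((⟨e, a, ha, rfl⟩ | ⟨e, e', a, c, h, hc, rfl⟩) | ⟨e, e', a, b, hab, hca, he', rfl⟩)
    · simp only [SetLike.mem_coe, LinearMap.mem_ker, hφ]
      exact hD.eq_zero _ e.2 fun hg => (gen_iff e.2 hl).1 hg a ha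
    · simp only [SetLike.mem_coe, LinearMap.mem_ker, map_sub, map_smul, hφ, smul_eq_mul]
      rw [hD.change e.1 e'.1 e.2 e'.2 a c h hc, sub_self]
    · simp only [SetLike.mem_coe, LinearMap.mem_ker, map_add, hφ]
      rw [he', hD.swap e.1 e.2 a b hab hca, add_neg_cancel]
  · show φ (sym R M ⟨e, he⟩) ≠ 0
    rw [hφ]
    exact hD.ne_zero e he hg

end Groth.Misc1.CycDetLib
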